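import Groth.Agent.Reductive.MTLocTriv
import Groth.Agent.UnitsTorus.Basic

/-!
Points of a group with a trivialisation over an algebra, as homomorphisms from the character group;
the twist of this description by an automorphism of the algebra.
-/

set_option autoImplicit false
set_option linter.style.haveILetI false

universe u

open CategoryTheory MonoidalCategory CartesianMonoidalCategory MonObj AlgebraicGeometry

noncomputable section

namespace Groth.Misc15.TorusDvr

open Groth.Reductive.MTInt

variable {A : Type u} [CommRing A]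

/-- The test object of a ring map. -/
abbrev sp {S : Type u} [CommRing S] (c : A →+* S) : Over (Spec (CommRingCat.of A)) :=
  Over.mk (Spec.map (CommRingCat.ofHom c))

/-- Functoriality of test objects. -/
def spMap {S S' : Type u} [CommRing S] [CommRing S'] (f : S →+* S') (c : A →+* S) (c' : A →+* S')
    (h : f.comp c = c') : sp c' ⟶ sp c :=
  Over.homMk (Spec.map (CommRingCat.ofHom f)) (by
    show Spec.map _ ≫ Spec.map _ = Spec.map _
    rw [← Spec.map_comp, ← CommRingCat.ofHom_comp, h])

@[simp] theorem spMap_left {S S' : Type u} [CommRing S] [CommRing S'] (f : S →+* S') (c : A →+* S)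
    (c' : A →+* S') (h : f.comp c = c') :
    (spMap f c c' h).left = Spec.map (CommRingCat.ofHom f) := rfl

theorem spMap_comp {S S' S'' : Type u} [CommRing S] [CommRing S'] [CommRing S''] (f : S →+* S')
    (g : S' →+* S'') (c : A →+* S) (c' : A →+* S') (c'' : A →+* S'') (h : f.comp c = c')
    (h' : g.comp c' = c'') :
    spMap g c' c'' h' ≫ spMap f c c' h =
      spMap (g.comp f) c c'' (by rw [RingHom.comp_assoc, h, h']) := by
  ext : 1
  simp [CommRingCat.ofHom_comp, Spec.map_comp]

theorem spMap_id {S : Type u} [CommRing S] (c : A →+* S) :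
    spMap (RingHom.id S) c c (RingHom.id_comp c) = 𝟙 _ := by
  ext : 1
  simp

variable {T : Over (Spec (CommRingCat.of A))}

section Affine

variable [IsAffine T.left]

/-- The ring map of a point of an affine scheme. -/
def ptHom {S : Type u} [CommRing S] {c : A →+* S} (x : sp c ⟶ T) : Γ(T.left, ⊤) →+* S :=
  (Spec.preimage ((x.left : Spec (CommRingCat.of S) ⟶ T.left) ≫ T.left.isoSpec.hom)).hom

theorem specMap_ptHom {S : Type u} [CommRing S] {c : A →+* S} (x : sp c ⟶ T) :
    Spec.map (CommRingCat.ofHom (ptHom x)) =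
      (x.left : Spec (CommRingCat.of S) ⟶ T.left) ≫ T.left.isoSpec.hom :=
  Spec.map_preimage _

theorem ptHom_spMap {S S' : Type u} [CommRing S] [CommRing S'] (f : S →+* S') {c : A →+* S}
    {c' : A →+* S'} (h : f.comp c = c') (x : sp c ⟶ T) :
    ptHom (spMap f c c' h ≫ x) = f.comp (ptHom x) := by
  suffices h2 : CommRingCat.ofHom (ptHom (spMap f c c' h ≫ x)) =
      CommRingCat.ofHom (f.comp (ptHom x)) from CommRingCat.hom_ext_iff.1 h2
  apply Spec.map_injective
  rw [specMap_ptHom, CommRingCat.ofHom_comp, Spec.map_comp, specMap_ptHom, Over.comp_left,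
    spMap_left]
  simp only [Category.assoc]

/-- A point whose ring map lands in a subring descends. -/
theorem exists_pt_of_range {S S' : Type u} [CommRing S] [CommRing S'] (f : S →+* S')
    (hf : Function.Injective f) (c : A →+* S) (c' : A →+* S') (h : f.comp c = c') (x : sp c' ⟶ T)
    (hx : ∀ o, ∃ s, f s = ptHom x o) : ∃ x₀ : sp c ⟶ T, spMap f c c' h ≫ x₀ = x := by
  choose φ hφ using hx
  let φ' : Γ(T.left, ⊤) →+* S :=
    { toFun := φ
      map_one' := hf (by rw [hφ, map_one, map_one])
      map_mul' := fun a b => hf (by rw [hφ, map_mul, map_mul, hφ, hφ])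
      map_zero' := hf (by rw [hφ, map_zero, map_zero])
      map_add' := fun a b => hf (by rw [hφ, map_add, map_add, hφ, hφ]) }
  have hl : Spec.map (CommRingCat.ofHom f) ≫ Spec.map (CommRingCat.ofHom φ') ≫ T.left.isoSpec.inv =
      (x.left : Spec (CommRingCat.of S') ⟶ T.left) := by
    rw [← Spec.map_comp_assoc, ← CommRingCat.ofHom_comp, show f.comp φ' = ptHom x from RingHom.ext hφ,
      specMap_ptHom, Category.assoc, Iso.hom_inv_id, Category.comp_id]
  obtain ⟨ψ, hψ⟩ : ∃ ψ : CommRingCat.of A ⟶ CommRingCat.of S, Spec.map ψ =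
      Spec.map (CommRingCat.ofHom φ') ≫ T.left.isoSpec.inv ≫ T.hom := ⟨_, Spec.map_preimage _⟩
  have hψc : ψ = CommRingCat.ofHom c := by
    have h1 : Spec.map (ψ ≫ CommRingCat.ofHom f) = Spec.map (CommRingCat.ofHom c') := by
      rw [Spec.map_comp, hψ, ← Category.assoc, ← Category.assoc, Category.assoc (Spec.map (CommRingCat.ofHom f)), hl]
      exact Over.w x
    refine CommRingCat.hom_ext (RingHom.ext fun a => hf ?_)
    have h2 := RingHom.congr_fun (CommRingCat.hom_ext_iff.1 (Spec.map_injective h1)) a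
    rw [← h] at h2
    exact h2
  refine ⟨Over.homMk (Spec.map (CommRingCat.ofHom φ') ≫ T.left.isoSpec.inv) ?_, ?_⟩
  · show _ = Spec.map (CommRingCat.ofHom c)
    rw [Category.assoc, ← hψ, hψc]
  · ext : 1
    exact hl

end Affine

variable [GrpObj T] {B : Type u} [CommRing B] [Algebra A B]
  (τ : Triv T (sp (algebraMap A B)))

/-- The structure map to the algebra. -/
def zOf {S : Type u} [CommRing S] (β : B →+* S) (c : A →+* S) (h : β.comp (algebraMap A B) = c) :
    sp c ⟶ sp (algebraMap A B) :=
  spMap β _ _ h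

/-- Points as homomorphisms from the character group. -/
def Φ {S : Type u} [CommRing S] (β : B →+* S) (c : A →+* S) (h : β.comp (algebraMap A B) = c) :
    (sp c ⟶ T) ≃* (Multiplicative τ.M →* S) :=
  (τ.val (zOf β c h)).trans
    ((Scheme.ΓSpecIso (CommRingCat.of S)).commRingCatIsoToRingEquiv.toMulEquiv.monoidHomCongrRight)

theorem Φ_map {S S' : Type u} [CommRing S] [CommRing S'] (f : S →+* S') (β : B →+* S) (c : A →+* S)
    (c' : A →+* S') (h : β.comp (algebraMap A B) = c) (hc : f.comp c = c') (x : sp c ⟶ T) :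
    Φ τ (f.comp β) c' (by rw [RingHom.comp_assoc, h, hc]) (spMap f c c' hc ≫ x) =
      f.toMonoidHom.comp (Φ τ β c h x) := by
  refine MonoidHom.ext fun m => ?_
  have hn := τ.nat (spMap f c c' hc) (zOf β c h) x
  rw [show spMap f c c' hc ≫ zOf β c h =
    zOf (f.comp β) c' (by rw [RingHom.comp_assoc, h, hc]) from spMap_comp _ _ _ _ _ _ _] at hn
  show (Scheme.ΓSpecIso (CommRingCat.of S')).hom (τ.val (zOf (f.comp β) c' _) (spMap f c c' hc ≫ x) m) =
    f ((Scheme.ΓSpecIso (CommRingCat.of S)).hom (τ.val (zOf β c h) x m))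
  rw [hn]
  exact ConcreteCategory.congr_hom (Scheme.ΓSpecIso_naturality (CommRingCat.ofHom f)) _

theorem exists_sigma [IsDomain B] [TwoUniqueSums τ.M] (g : B →ₐ[A] B) :
    ∃ σ : τ.M →+ τ.M, ∀ (S : Type u) [CommRing S] (β : B →+* S) (c : A →+* S)
      (h : β.comp (algebraMap A B) = c) (h' : (β.comp (g : B →+* B)).comp (algebraMap A B) = c)
      (x : sp c ⟶ T) (m : τ.M),
      Φ τ (β.comp (g : B →+* B)) c h' x (Multiplicative.ofAdd m) =
        Φ τ β c h x (Multiplicative.ofAdd (σ m)) := by
  classical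
  let U := MonoidAlgebra B (Multiplicative τ.M)
  let j₀ : B →+* U := MonoidAlgebra.singleOneRingHom
  let c₀ : A →+* U := j₀.comp (algebraMap A B)
  let x₀ : sp c₀ ⟶ T := (Φ τ j₀ c₀ rfl).symm (MonoidAlgebra.of B (Multiplicative τ.M))
  have hg : (j₀.comp (g : B →+* B)).comp (algebraMap A B) = c₀ := by
    rw [RingHom.comp_assoc, AlgHom.comp_algebraMap]
  let ψ := Φ τ (j₀.comp (g : B →+* B)) c₀ hg x₀
  -- evaluation at any point
  have hev : ∀ (S : Type u) [CommRing S] (β : B →+* S) (c : A →+* S)
      (h : β.comp (algebraMap A B) = c) (h' : (β.comp (g : B →+* B)).comp (algebraMap A B) = c)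
      (x : sp c ⟶ T), ∃ f : U →+* S, (∀ m b, f (MonoidAlgebra.single m b) = β b * Φ τ β c h x m) ∧
        ∀ m, Φ τ (β.comp (g : B →+* B)) c h' x m = f (ψ m) := by
    intro S _ β c h h' x
    let f : U →+* S := MonoidAlgebra.liftNCRingHom β (Φ τ β c h x) fun _ _ => Commute.all _ _
    have hf : ∀ m b, f (MonoidAlgebra.single m b) = β b * Φ τ β c h x m := fun m b =>
      MonoidAlgebra.liftNC_single _ _ _ _
    have hfj₀ : f.comp j₀ = β := RingHom.ext fun b => by
      show f (MonoidAlgebra.single 1 b) = β b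
      rw [hf, map_one, _root_.mul_one]
    have hfc : f.comp c₀ = c := by rw [← RingHom.comp_assoc, hfj₀, h]
    have hx : spMap f c₀ c hfc ≫ x₀ = x := by
      apply (Φ τ β c h).injective
      have := Φ_map τ f j₀ c₀ c rfl hfc x₀
      simp only [hfj₀] at this
      rw [this]
      refine MonoidHom.ext fun m => ?_
      show f (Φ τ j₀ c₀ rfl x₀ m) = _
      rw [MulEquiv.apply_symm_apply, MonoidAlgebra.of_apply, hf, map_one, _root_.one_mul]
    refine ⟨f, hf, fun m => ?_⟩
    have := Φ_map τ f (j₀.comp (g : B →+* B)) c₀ c hg hfc x₀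
    simp only [← RingHom.comp_assoc, hfj₀, hx] at this
    rw [this]
    rfl
  have hunit : ∀ m : τ.M, ∃ (n : τ.M) (b : B),
      ψ (Multiplicative.ofAdd m) = MonoidAlgebra.single (Multiplicative.ofAdd n) b := fun m => by
    obtain ⟨n, b, -, hb⟩ := Groth.UnitsTorus.exists_single_of_isUnit
      (AddMonoidAlgebra.toMultiplicativeAlgEquiv B B τ.M |>.symm (ψ (Multiplicative.ofAdd m)))
      ((((Group.isUnit (Multiplicative.ofAdd m)).map ψ)).map _)
    refine ⟨n, b, ?_⟩
    have := congrArg (AddMonoidAlgebra.toMultiplicativeAlgEquiv B B τ.M) hb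
    rw [AlgEquiv.apply_symm_apply] at this
    rw [this]
    simp
  choose σ b hb using hunit
  have hone : ∀ m, b m = 1 := fun m => by
    have hgg : ((RingHom.id B).comp (g : B →+* B)).comp (algebraMap A B) = algebraMap A B := by
      rw [RingHom.id_comp, AlgHom.comp_algebraMap]
    obtain ⟨f, hf, hψ⟩ := hev B (RingHom.id B) (algebraMap A B) (RingHom.id_comp _) hgg 1
    have := hψ (Multiplicative.ofAdd m)
    rw [hb, hf, map_one, map_one] at this
    simpa using this.symm
  refine ⟨{ toFun := σ, map_zero' := ?_, map_add' := fun m m' => ?_ }, ?_⟩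
  · have := hb 0
    rw [ofAdd_zero, map_one, hone, MonoidAlgebra.one_def] at this
    exact Multiplicative.ofAdd.injective
      ((MonoidAlgebra.single_left_injective (one_ne_zero (α := B))) this).symm
  · have := hb (m + m')
    rw [ofAdd_add, map_mul, hb, hb, hone, hone, hone, MonoidAlgebra.single_mul_single, _root_.one_mul,
      ← ofAdd_add] at this
    exact Multiplicative.ofAdd.injective
      ((MonoidAlgebra.single_left_injective (one_ne_zero (α := B))) this).symm
  intro S _ β c h h' x m
  obtain ⟨f, hf, hψ⟩ := hev S β c h h' x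
  rw [hψ, hb, hone, hf, map_one, _root_.one_mul]
  rfl

end Groth.Misc15.TorusDvr
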