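import Groth.Agent.Misc15.TorusDvr.Pts
import Groth.Agent.TorusPts.Data
import Groth.Agent.Reductive2.TorusAffine

/-!
An isotrivial torus over a discrete valuation ring is affine and split by a finite unramified domain
inside a finite Galois extension of the fraction field, stable under the Galois group.
-/

set_option autoImplicit false
set_option linter.style.haveILetI false

universe u

open CategoryTheory CategoryTheory.Limits MonoidalCategory CartesianMonoidalCategory MonObj AlgebraicGeometry

noncomputable section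

namespace Groth.Misc15.TorusDvr

open Groth.Reductive.MTInt

variable {A : Type u} [CommRing A]

theorem formallyUnramified_of_adjoin {S : Type u} [CommRing S] [Algebra A S] {X : Set S}
    (hX : Algebra.adjoin A X = ⊤)
    (h : ∀ x ∈ X, ∃ (C : Type u) (_ : CommRing C) (_ : Algebra A C) (_ : Algebra.FormallyUnramified A C)
      (φ : C →ₐ[A] S) (c : C), φ c = x) : Algebra.FormallyUnramified A S := by
  have hD : ∀ x, KaehlerDifferential.D A S x = 0 := by
    intro x
    refine Derivation.eqOn_adjoin (D1 := KaehlerDifferential.D A S) (D2 := 0) (s := X) ?_ (hX ▸ Algebra.mem_top : x ∈ _)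
    intro y hy
    obtain ⟨C, _, _, _, φ, c, rfl⟩ := h y hy
    letI := φ.toRingHom.toAlgebra
    haveI : IsScalarTower A C S := .of_algebraMap_eq fun a => (φ.commutes a).symm
    have h2 := Derivation.liftKaehlerDifferential_comp ((KaehlerDifferential.D A S).compAlgebraMap C)
    have h3 : ((KaehlerDifferential.D A S).compAlgebraMap C) c = 0 := by
      rw [← h2]
      simp [Subsingleton.elim (KaehlerDifferential.D A C c) 0]
    exact h3
  refine ⟨(Submodule.subsingleton_iff S).1 (subsingleton_of_bot_eq_top ?_)⟩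
  rw [← KaehlerDifferential.span_range_derivation A S, eq_comm, Submodule.span_eq_bot]
  rintro _ ⟨x, rfl⟩
  exact hD x

/-- The galois-stable unramified algebra generated by the conjugates of an unramified one. -/
theorem exists_stable_subalgebra {K E C : Type u} [Field K] [Field E] [Algebra K E] [FiniteDimensional K E]
    [Algebra A K] [Algebra A E] [IsScalarTower A K E] [CommRing C] [Algebra A C] [Module.Finite A C]
    [Algebra.FormallyUnramified A C] (j : C →ₐ[A] E) :
    ∃ S : Subalgebra A E, Module.Finite A S ∧ Algebra.FormallyUnramified A S ∧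
      (∀ c, j c ∈ S) ∧ ∀ (g : E ≃ₐ[K] E) (x : E), x ∈ S → g x ∈ S := by
  classical
  obtain ⟨s, hs⟩ := (Module.Finite.fg_top : (⊤ : Submodule A C).FG)
  let act : (E ≃ₐ[K] E) → C →ₐ[A] E := fun g => (g.toAlgHom.restrictScalars A).comp j
  let X : Set E := ⋃ g : E ≃ₐ[K] E, act g '' (s : Set C)
  have hXfin : X.Finite := Set.finite_iUnion fun g => s.finite_toSet.image _
  have hall : ∀ g c, act g c ∈ Algebra.adjoin A X := fun g c => by
    have hle : Submodule.span A (s : Set C) ≤
        (Algebra.adjoin A X).toSubmodule.comap (act g).toLinearMap :=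
      Submodule.span_le.2 fun c hc => Algebra.subset_adjoin (Set.mem_iUnion.2 ⟨g, c, hc, rfl⟩)
    exact hle (hs ▸ Submodule.mem_top)
  refine ⟨Algebra.adjoin A X, Module.Finite.iff_fg.2 (fg_adjoin_of_finite hXfin ?_), ?_, fun c => hall 1 c, fun g x hx => ?_⟩
  · rintro x hx
    obtain ⟨g, c, -, rfl⟩ := Set.mem_iUnion.1 hx
    exact (Algebra.IsIntegral.isIntegral (R := A) c).map (act g)
  · refine formallyUnramified_of_adjoin (X := Subtype.val ⁻¹' X) (Algebra.adjoin_adjoin_coe_preimage) ?_
    intro x hx
    obtain ⟨g, c, -, hc⟩ := Set.mem_iUnion.1 hx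
    exact ⟨C, inferInstance, inferInstance, inferInstance,
      (act g).codRestrict _ (hall g), c, Subtype.ext hc⟩
  · have hle : Algebra.adjoin A X ≤ (Algebra.adjoin A X).comap (g.toAlgHom.restrictScalars A) := by
      refine Algebra.adjoin_le ?_
      intro y hy
      obtain ⟨g', c, hc, rfl⟩ := Set.mem_iUnion.1 hy
      exact hall (g * g') c
    exact hle hx

/-- The splitting data. -/
structure Split (A : Type u) [CommRing A] [IsDomain A] (T : Over (Spec (CommRingCat.of A))) [GrpObj T] where
  /-- the Galois extension -/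
  E : Type u
  [field : Field E]
  [algK : Algebra (FractionRing A) E]
  [algA : Algebra A E]
  [tower : IsScalarTower A (FractionRing A) E]
  [finiteDim : FiniteDimensional (FractionRing A) E]
  [galois : IsGalois (FractionRing A) E]
  /-- the unramified algebra -/
  B : Subalgebra A E
  [finite : Module.Finite A B]
  [unram : Algebra.FormallyUnramified A B]
  stable : ∀ (g : E ≃ₐ[FractionRing A] E) (x : E), x ∈ B → g x ∈ B
  /-- the trivialisation -/
  triv : Triv T (sp (algebraMap A B))
  [uniqueSums : TwoUniqueSums triv.M]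

attribute [instance] Split.field Split.algK Split.algA Split.tower Split.finiteDim Split.galois
  Split.finite Split.unram Split.uniqueSums

theorem isTorus_of_locally {T : Over (Spec (CommRingCat.of A))} [GrpObj T] {r : ℕ}
    (hT : TwC.Locally (Spec (CommRingCat.of A)) .finiteEtale
      (fun S' g => Red.IsSplitTorusWith (Fin r → ℤ) (Red.bc g T))) : Red.IsTorus T := by
  obtain ⟨S', f, hfin, het, hsurj, hloc⟩ := hT
  refine ⟨S', f, inferInstance, hsurj, fun V hV => ⟨f ⁻¹ᵁ V, (hV.preimage f).isCompact, ?_⟩, fun s' => ?_⟩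
  · exact Set.image_preimage_eq _ hsurj.surj
  · obtain ⟨U, h1, -, h3⟩ := hloc s'
    exact ⟨U, h1, r, h3⟩

theorem nonempty_split [IsDomain A] [IsDiscreteValuationRing A] {T : Over (Spec (CommRingCat.of A))}
    [GrpObj T] {r : ℕ} (hT : TwC.Locally (Spec (CommRingCat.of A)) .finiteEtale
      (fun S' g => Red.IsSplitTorusWith (Fin r → ℤ) (Red.bc g T))) : Nonempty (Split A T) := by
  obtain ⟨S', f, hfin, het, hsurj, hloc⟩ := hT
  haveI : IsAffine S' := isAffine_of_isAffineHom f
  obtain ⟨φ, hφ⟩ : ∃ φ : CommRingCat.of A ⟶ Γ(S', ⊤), Spec.map φ = S'.isoSpec.inv ≫ f :=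
    ⟨_, Spec.map_preimage _⟩
  letI := φ.hom.toAlgebra
  have hfinφ : φ.hom.Finite := by
    rw [← IsFinite.SpecMap_iff, hφ]
    infer_instance
  have hetφ : φ.hom.Etale := by
    rw [← HasRingHomProperty.Spec_iff (P := @Etale), hφ]
    infer_instance
  haveI : Module.Finite A Γ(S', ⊤) := hfinφ
  haveI : Algebra.Etale A Γ(S', ⊤) := hetφ
  haveI : Surjective (Spec.map φ) := by rw [hφ]; infer_instance
  obtain ⟨q, hq⟩ := (Spec.map φ).surjective (⟨⊥, Ideal.isPrime_bot⟩ : PrimeSpectrum A)
  replace hq : q.asIdeal.comap (algebraMap A Γ(S', ⊤)) = ⊥ := congrArg PrimeSpectrum.asIdeal hq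
  haveI := q.isPrime
  let C := Γ(S', ⊤) ⧸ q.asIdeal
  haveI : Algebra.FormallyUnramified A C :=
    .of_surjective (Ideal.Quotient.mkₐ A q.asIdeal) (Ideal.Quotient.mkₐ_surjective A _)
  haveI : FaithfulSMul A C := (faithfulSMul_iff_algebraMap_injective A C).2
    ((injective_iff_map_eq_zero _).2 fun a ha => by
      rw [← Ideal.mem_bot, ← hq, Ideal.mem_comap]
      exact Ideal.Quotient.eq_zero_iff_mem.1 ha)
  haveI : Module.IsTorsionFree A C := Module.isTorsionFree_iff_faithfulSMul.2 inferInstance
  -- the generic point of `C` lies in a clopen piece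
  let qC : Spec (CommRingCat.of C) ⟶ S' :=
    Spec.map (CommRingCat.ofHom (Ideal.Quotient.mk q.asIdeal)) ≫ S'.isoSpec.inv
  let gC : PrimeSpectrum C := ⟨⊥, Ideal.isPrime_bot⟩
  obtain ⟨U, hU, hUc, ⟨e⟩⟩ := hloc (qC.base gC)
  have hrange : Set.range qC.base ⊆ Set.range U.ι.base := by
    rw [Scheme.Opens.range_ι]
    rintro _ ⟨x, rfl⟩
    exact ((PrimeSpectrum.le_iff_specializes gC x).1 bot_le).map qC.base.hom.2 |>.mem_closed hUc hU
  let t := IsOpenImmersion.lift U.ι qC hrange
  -- the Galois extension
  letI := FractionRing.liftAlgebra A (FractionRing C)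
  haveI : IsLocalization (Algebra.algebraMapSubmonoid C (nonZeroDivisors A)) (FractionRing C) := by
    refine (IsLocalization.iff_of_le_of_exists_dvd _ (nonZeroDivisors C) ?_ ?_).2 inferInstance
    · rintro _ ⟨a, ha, rfl⟩
      exact mem_nonZeroDivisors_of_ne_zero (fun h => nonZeroDivisors.ne_zero ha
        ((map_eq_zero_iff _ (FaithfulSMul.algebraMap_injective A C)).1 h))
    · intro c hc
      haveI : Algebra.IsIntegral A C := Algebra.IsIntegral.of_finite A C
      have hne : (Ideal.span {c}).comap (algebraMap A C) ≠ ⊥ := mt Ideal.eq_bot_of_comap_eq_bot (by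
        simpa using nonZeroDivisors.ne_zero hc)
      obtain ⟨a, ha, ha0⟩ := (Submodule.ne_bot_iff _).1 hne
      exact ⟨algebraMap A C a, ⟨a, mem_nonZeroDivisors_of_ne_zero ha0, rfl⟩,
        Ideal.mem_span_singleton.1 ha⟩
  haveI : Module.Finite (FractionRing A) (FractionRing C) :=
    Module.Finite.of_isLocalization A C (nonZeroDivisors A)
  haveI : Algebra.FormallyUnramified C (FractionRing C) := .of_isLocalization (nonZeroDivisors C)
  haveI : Algebra.FormallyUnramified A (FractionRing C) := .comp A C _
  haveI : Algebra.FormallyUnramified (FractionRing A) (FractionRing C) := .of_restrictScalars A _ _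
  haveI : Algebra.IsSeparable (FractionRing A) (FractionRing C) :=
    Algebra.FormallyUnramified.isSeparable _ _
  obtain ⟨E, _, _, _, _, ⟨jE⟩⟩ := Groth.TorusPts.exists_galois_over (K := FractionRing A) (FractionRing C)
  letI : Algebra A E := ((algebraMap (FractionRing A) E).comp (algebraMap A (FractionRing A))).toAlgebra
  haveI : IsScalarTower A (FractionRing A) E := .of_algebraMap_eq fun _ => rfl
  obtain ⟨S, hSfin, hSu, hCS, hstable⟩ := exists_stable_subalgebra (K := FractionRing A)
    ((jE.restrictScalars A).comp (IsScalarTower.toAlgHom A C (FractionRing C)))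
  let jS := ((jE.restrictScalars A).comp (IsScalarTower.toAlgHom A C (FractionRing C))).codRestrict S hCS
  haveI : TwoUniqueSums (Fin r → ℤ) := inferInstance
  refine ⟨{ E := E, B := S, stable := hstable,
            triv := trivOfIso e (Spec.map (CommRingCat.ofHom (jS : C →+* S)) ≫ t) ?_,
            uniqueSums := ‹TwoUniqueSums (Fin r → ℤ)› }⟩
  show (Spec.map _ ≫ t) ≫ U.ι ≫ f = Spec.map (CommRingCat.ofHom (algebraMap A S))
  rw [Category.assoc, IsOpenImmersion.lift_fac_assoc]
  show Spec.map _ ≫ (Spec.map _ ≫ S'.isoSpec.inv) ≫ f = _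
  rw [Category.assoc, ← hφ, ← Spec.map_comp, ← Spec.map_comp]
  congr 1
  refine CommRingCat.hom_ext (RingHom.ext fun a => ?_)
  exact jS.commutes a

end Groth.Misc15.TorusDvr
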