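import Groth.Agent.Misc15.TorusDvr.Ring

/-!
Units of `B ⊗ K^` for a finite unramified domain `B` over a discrete valuation ring: products of powers
of the prime elements of `B` and of units of `B ⊗ A^`.
-/

set_option autoImplicit false
set_option linter.style.haveILetI false
set_option linter.unusedSectionVars false

universe u

open TensorProduct

noncomputable section

namespace Groth.Misc15.TorusDvr

/-- Products of powers of given units. -/
def unitsProd {P B S : Type*} [Fintype P] [CommRing B] [CommRing S] (f : B →+* S) (β : P → B)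
    (h : ∀ p, IsUnit (f (β p))) (n : P → ℤ) : Sˣ :=
  ∏ p, (h p).unit ^ n p

theorem unitsProd_add {P B S : Type*} [Fintype P] [CommRing B] [CommRing S] (f : B →+* S) (β : P → B)
    (h : ∀ p, IsUnit (f (β p))) (n n' : P → ℤ) :
    unitsProd f β h (n + n') = unitsProd f β h n * unitsProd f β h n' := by
  simp [unitsProd, zpow_add, Finset.prod_mul_distrib]

theorem unitsProd_zero {P B S : Type*} [Fintype P] [CommRing B] [CommRing S] (f : B →+* S) (β : P → B)
    (h : ∀ p, IsUnit (f (β p))) : unitsProd f β h 0 = 1 := by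
  simp [unitsProd]

theorem unitsProd_natCast {P B S : Type*} [Fintype P] [CommRing B] [CommRing S] (f : B →+* S)
    (β : P → B) (h : ∀ p, IsUnit (f (β p))) (n : P → ℕ) :
    (unitsProd f β h (fun p => (n p : ℤ)) : S) = f (∏ p, β p ^ n p) := by
  simp [unitsProd, zpow_natCast, map_prod, map_pow]

theorem map_unitsProd {P B S S' : Type*} [Fintype P] [CommRing B] [CommRing S] [CommRing S']
    (f : B →+* S) (g : S →+* S') (f' : B →+* S') (hg : g.comp f = f') (β : P → B)
    (h : ∀ p, IsUnit (f (β p))) (h' : ∀ p, IsUnit (f' (β p))) (n : P → ℤ) :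
    Units.map (g : S →* S') (unitsProd f β h n) = unitsProd f' β h' n := by
  rw [unitsProd, map_prod, unitsProd]
  refine Finset.prod_congr rfl fun p _ => ?_
  rw [map_zpow]
  congr 1
  ext
  simp [← hg]

theorem unitsProd_equiv {P B S : Type*} [Fintype P] [CommRing B] [CommRing S] (f : B →+* S)
    (β : P → B) (h : ∀ p, IsUnit (f (β p))) (e : P ≃ P) (b : B →+* B) (s : S →+* S)
    (hs : s.comp f = f.comp b) (hb : ∀ p, β (e p) = b (β p)) (n : P → ℤ) :
    Units.map (s : S →* S) (unitsProd f β h n) = unitsProd f β h (n ∘ e.symm) := by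
  rw [unitsProd, map_prod, unitsProd]
  refine Fintype.prod_equiv e _ _ fun p => ?_
  rw [map_zpow]
  simp only [Function.comp_apply, Equiv.symm_apply_apply]
  congr 1
  ext
  show s (f (β p)) = f (β (e p))
  rw [hb]
  exact RingHom.congr_fun hs _

variable {A B Ah Kh : Type u} [CommRing A] [IsDomain A] [IsDiscreteValuationRing A]
  [CommRing B] [IsDomain B] [Algebra A B] [Module.Finite A B] [FaithfulSMul A B]
  [CommRing Ah] [Algebra A Ah] [Module.FaithfullyFlat A Ah]
  [Field Kh] [Algebra A Kh] [Algebra Ah Kh] [IsScalarTower A Ah Kh] [FaithfulSMul Ah Kh]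

variable (A B Ah Kh) in
/-- The inclusion of the integral level. -/
def jMap : B ⊗[A] Ah →ₐ[A] B ⊗[A] Kh :=
  Algebra.TensorProduct.map (AlgHom.id A B) (IsScalarTower.toAlgHom A Ah Kh)

theorem jMap_tmul (b : B) (a : Ah) : jMap A B Ah Kh (b ⊗ₜ a) = b ⊗ₜ algebraMap Ah Kh a := rfl

theorem jMap_injective : Function.Injective (jMap A B Ah Kh) := by
  haveI : Module.IsTorsionFree A B := Module.isTorsionFree_iff_faithfulSMul.2 inferInstance
  haveI : Module.Free A B := inferInstance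
  exact Module.Flat.lTensor_preserves_injective_linearMap
    (IsScalarTower.toAlgHom A Ah Kh).toLinearMap (FaithfulSMul.algebraMap_injective Ah Kh)

/-- Integral elements of the completed field. -/
theorem mem_range_of_one_tmul [Nontrivial (B ⊗[A] Kh)]
    (hic : ∀ k : Kh, IsIntegral Ah k → ∃ a, algebraMap Ah Kh a = k) (k : Kh)
    (w : B ⊗[A] Ah) (hw : jMap A B Ah Kh w = 1 ⊗ₜ k) : ∃ a, algebraMap Ah Kh a = k := by
  letI : Algebra Ah (B ⊗[A] Ah) := Algebra.TensorProduct.rightAlgebra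
  haveI : Module.Finite Ah (B ⊗[A] Ah) :=
    Module.Finite.equiv (Algebra.TensorProduct.commRight A Ah B).toLinearEquiv
  obtain ⟨p, hp, hpw⟩ := IsIntegral.of_finite Ah w
  refine hic k ⟨p, hp, ?_⟩
  have h1 : Function.Injective (Algebra.TensorProduct.includeRight : Kh →ₐ[A] B ⊗[A] Kh) :=
    (Algebra.TensorProduct.includeRight : Kh →ₐ[A] B ⊗[A] Kh).toRingHom.injective
  refine h1 ?_
  rw [map_zero]
  have h2 := congrArg (jMap A B Ah Kh) hpw
  rw [map_zero] at h2
  refine Eq.trans ?_ h2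
  show ((Algebra.TensorProduct.includeRight : Kh →ₐ[A] B ⊗[A] Kh) : Kh →+* B ⊗[A] Kh) _ =
    (jMap A B Ah Kh : B ⊗[A] Ah →+* B ⊗[A] Kh) _
  rw [Polynomial.hom_eval₂, Polynomial.hom_eval₂]
  congr 1
  exact hw.symm

theorem exists_pow_mul_mem {π : A}
    (hloc : ∀ k : Kh, ∃ (N : ℕ) (a : Ah), algebraMap Ah Kh a = algebraMap A Kh π ^ N * k)
    (r : B ⊗[A] Kh) : ∃ (N : ℕ) (w : B ⊗[A] Ah),
      jMap A B Ah Kh w = algebraMap A (B ⊗[A] Kh) π ^ N * r := by
  induction r using TensorProduct.induction_on with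
  | zero => exact ⟨0, 0, by simp⟩
  | tmul b k =>
    obtain ⟨N, a, ha⟩ := hloc k
    refine ⟨N, b ⊗ₜ a, ?_⟩
    rw [jMap_tmul, ha, ← map_pow, ← map_pow, ← Algebra.smul_def, ← Algebra.smul_def,
      TensorProduct.tmul_smul]
  | add x y hx hy =>
    obtain ⟨N, w, hw⟩ := hx
    obtain ⟨N', w', hw'⟩ := hy
    refine ⟨N + N', algebraMap A _ π ^ N' * w + algebraMap A _ π ^ N * w', ?_⟩
    simp only [map_add, map_mul, map_pow, AlgHom.commutes, hw, hw']
    ring

theorem exists_approx {π : A}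
    (happrox : ∀ (a : Ah) (N : ℕ), ∃ (α : A) (c : Ah), a - algebraMap A Ah α = algebraMap A Ah π ^ N * c)
    (w : B ⊗[A] Ah) (N : ℕ) :
    ∃ (b : B) (c : B ⊗[A] Ah), w - b ⊗ₜ 1 = algebraMap A (B ⊗[A] Ah) π ^ N * c := by
  induction w using TensorProduct.induction_on with
  | zero => exact ⟨0, 0, by simp⟩
  | tmul b a =>
    obtain ⟨α, c, hc⟩ := happrox a N
    refine ⟨α • b, b ⊗ₜ c, ?_⟩
    rw [TensorProduct.smul_tmul, ← TensorProduct.tmul_sub, Algebra.smul_def, mul_one, hc, ← map_pow,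
      ← map_pow, ← Algebra.smul_def, ← Algebra.smul_def, TensorProduct.tmul_smul]
  | add x y hx hy =>
    obtain ⟨b, c, h⟩ := hx
    obtain ⟨b', c', h'⟩ := hy
    refine ⟨b + b', c + c', ?_⟩
    rw [TensorProduct.add_tmul, mul_add, ← h, ← h']
    abel

theorem isUnit_one_add_mul {π : A} (hπ : ¬ IsUnit (algebraMap A Ah π)) [IsLocalRing Ah]
    (c : B ⊗[A] Ah) : IsUnit (1 + algebraMap A (B ⊗[A] Ah) π * c) := by
  letI : Algebra Ah (B ⊗[A] Ah) := Algebra.TensorProduct.rightAlgebra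
  haveI : Module.Finite Ah (B ⊗[A] Ah) :=
    Module.Finite.equiv (Algebra.TensorProduct.commRight A Ah B).toLinearEquiv
  haveI : Algebra.IsIntegral Ah (B ⊗[A] Ah) := Algebra.IsIntegral.of_finite Ah _
  by_contra h
  obtain ⟨M, hM, hcM⟩ := exists_max_ideal_of_mem_nonunits (mem_nonunits_iff.2 h)
  have hmem : algebraMap A (B ⊗[A] Ah) π ∈ M := by
    have he := IsLocalRing.eq_maximalIdeal
      (Ideal.isMaximal_comap_of_isIntegral_of_isMaximal (R := Ah) M)
    have h1 : algebraMap A Ah π ∈ M.comap (algebraMap Ah (B ⊗[A] Ah)) := by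
      rw [he]; exact hπ
    rw [Ideal.mem_comap] at h1
    rwa [← Algebra.TensorProduct.includeRight.commutes π]
  exact hM.ne_top ((Ideal.eq_top_iff_one M).2
    (by simpa using M.sub_mem hcM (M.mul_mem_right c hmem)))

variable [Fintype (MaximalSpectrum B)] {β : MaximalSpectrum B → B}

theorem isUnit_image {π : A} (hπ : Irreducible π) (hβ : ∀ m, Ideal.span {β m} = m.asIdeal)
    {S : Type u} [CommRing S] (f : B →+* S) (hf : IsUnit (f (algebraMap A B π)))
    (m : MaximalSpectrum B) : IsUnit (f (β m)) := by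
  haveI := m.isMaximal
  obtain ⟨y, hy⟩ := Ideal.mem_span_singleton'.1
    ((hβ m).symm ▸ mem_of_isMaximal hπ m.asIdeal : algebraMap A B π ∈ Ideal.span {β m})
  rw [← hy, map_mul] at hf
  exact isUnit_of_mul_isUnit_right hf

theorem eq_zero_of_unitsProd_eq (hβ : ∀ m, Ideal.span {β m} = m.asIdeal)
    (hu : ∀ m, IsUnit ((Algebra.TensorProduct.includeLeftRingHom : B →+* B ⊗[A] Kh) (β m)))
    (n : MaximalSpectrum B → ℤ) (w : (B ⊗[A] Ah)ˣ)
    (h : (unitsProd (Algebra.TensorProduct.includeLeftRingHom : B →+* B ⊗[A] Kh) β hu n : B ⊗[A] Kh) =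
      jMap A B Ah Kh w) : n = 0 := by
  classical
  let p : MaximalSpectrum B → ℕ := fun m => (n m).toNat
  let q : MaximalSpectrum B → ℕ := fun m => (-n m).toNat
  have key : (∏ m, β m ^ p m) ⊗ₜ[A] (1 : Ah) = w * ((∏ m, β m ^ q m) ⊗ₜ[A] (1 : Ah)) := by
    refine jMap_injective (Kh := Kh) ?_
    rw [map_mul, jMap_tmul, jMap_tmul, map_one, ← h]
    show (Algebra.TensorProduct.includeLeftRingHom : B →+* B ⊗[A] Kh) _ =
      _ * (Algebra.TensorProduct.includeLeftRingHom : B →+* B ⊗[A] Kh) _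
    rw [← unitsProd_natCast _ β hu p, ← unitsProd_natCast _ β hu q, ← Units.val_mul, ← unitsProd_add]
    congr 2
    funext m
    simp only [Pi.add_apply, p, q]
    omega
  have hff : Module.FaithfullyFlat B (B ⊗[A] Ah) := inferInstance
  have hmem : ∀ (m : MaximalSpectrum B) (x y : B) (u : (B ⊗[A] Ah)ˣ),
      x ∈ m.asIdeal → x ⊗ₜ[A] (1 : Ah) = u * (y ⊗ₜ[A] (1 : Ah)) → y ∈ m.asIdeal := by
    intro m x y u hx hxy
    rw [← Ideal.comap_map_eq_self_of_faithfullyFlat (B := B ⊗[A] Ah) m.asIdeal]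
    show y ⊗ₜ[A] (1 : Ah) ∈ m.asIdeal.map (algebraMap B (B ⊗[A] Ah))
    rw [show y ⊗ₜ[A] (1 : Ah) = (u⁻¹ : (B ⊗[A] Ah)ˣ) * (x ⊗ₜ[A] (1 : Ah)) by
      rw [hxy, Units.inv_mul_cancel_left]]
    exact Ideal.mul_mem_left _ _ (Ideal.mem_map_of_mem _ hx)
  have hnot : ∀ (m : MaximalSpectrum B) (e : MaximalSpectrum B → ℕ), e m = 0 →
      ∏ k, β k ^ e k ∉ m.asIdeal := fun m e he hk => by
    obtain ⟨k, -, hk⟩ := (Ideal.IsPrime.prod_mem_iff (hp := m.isMaximal.isPrime)).1 hk
    have hk' := m.isMaximal.isPrime.mem_of_pow_mem _ hk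
    rw [← Ideal.span_singleton_le_iff_mem, hβ] at hk'
    have : k = m := MaximalSpectrum.ext (k.isMaximal.eq_of_le m.isMaximal.ne_top hk')
    subst this
    rw [he, pow_zero] at hk
    exact k.isMaximal.ne_top ((Ideal.eq_top_iff_one _).2 hk)
  have hpos : ∀ (m : MaximalSpectrum B) (e : MaximalSpectrum B → ℕ), e m ≠ 0 →
      ∏ k, β k ^ e k ∈ m.asIdeal := fun m e he => by
    rw [← Finset.mul_prod_erase Finset.univ _ (Finset.mem_univ m)]
    refine Ideal.mul_mem_right _ _ (Ideal.pow_mem_of_mem _ ?_ _ (Nat.pos_of_ne_zero he))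
    rw [← hβ m]
    exact Ideal.mem_span_singleton_self _
  funext m
  rcases lt_trichotomy (n m) 0 with hlt | he | hgt
  · exact absurd (hmem m _ _ w⁻¹ (hpos m q (by simp only [q]; omega)) (by
      rw [key, Units.inv_mul_cancel_left])) (hnot m p (by simp only [p]; omega))
  · exact he
  · exact absurd (hmem m _ _ w (hpos m p (by simp only [p]; omega)) key)
      (hnot m q (by simp only [q]; omega))

theorem exists_decomp [IsLocalRing Ah] {π : A} (hπ : Irreducible π)
    (hπh : ¬ IsUnit (algebraMap A Ah π)) (hπK : algebraMap A Kh π ≠ 0)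
    (hloc : ∀ k : Kh, ∃ (N : ℕ) (a : Ah), algebraMap Ah Kh a = algebraMap A Kh π ^ N * k)
    (happrox : ∀ (a : Ah) (N : ℕ), ∃ (α : A) (c : Ah), a - algebraMap A Ah α = algebraMap A Ah π ^ N * c)
    (hβ : ∀ m, Ideal.span {β m} = m.asIdeal) [Nontrivial (B ⊗[A] Kh)]
    (hu : ∀ m, IsUnit ((Algebra.TensorProduct.includeLeftRingHom : B →+* B ⊗[A] Kh) (β m)))
    (z : (B ⊗[A] Kh)ˣ) :
    ∃ (n : MaximalSpectrum B → ℤ) (w : (B ⊗[A] Ah)ˣ),
      z = unitsProd (Algebra.TensorProduct.includeLeftRingHom : B →+* B ⊗[A] Kh) β hu n *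
        Units.map (jMap A B Ah Kh : B ⊗[A] Ah →* B ⊗[A] Kh) w := by
  classical
  haveI : IsNoetherianRing B := .of_finite A B
  set R := B ⊗[A] Kh
  set ι := (Algebra.TensorProduct.includeLeftRingHom : B →+* R)
  set pR := algebraMap A R π
  have hpR : IsUnit pR := by
    rw [show pR = Algebra.TensorProduct.includeRight (algebraMap A Kh π) from
      (Algebra.TensorProduct.includeRight.commutes π).symm]
    exact (Ne.isUnit hπK).map _
  obtain ⟨N, z₀, hz₀⟩ := exists_pow_mul_mem hloc (z : R)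
  obtain ⟨N', z₁, hz₁⟩ := exists_pow_mul_mem hloc (((z⁻¹ : Rˣ) : R))
  obtain ⟨b, c, hbc⟩ := exists_approx happrox z₀ (N + N' + 1)
  obtain ⟨w₀, hw₀⟩ := isUnit_one_add_mul hπh (-(c * z₁))
  have hbz : ι b = (pR ^ N * z) * jMap A B Ah Kh w₀ := by
    have h1 : jMap A B Ah Kh (b ⊗ₜ 1) = ι b := by
      rw [jMap_tmul, map_one]
      rfl
    rw [← h1, show (b ⊗ₜ[A] (1 : Ah)) = z₀ - algebraMap A _ π ^ (N + N' + 1) * c by rw [← hbc]; abel,
      map_sub, map_mul, map_pow, AlgHom.commutes, hz₀, hw₀, map_add, map_one, map_mul, map_neg, map_mul,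
      AlgHom.commutes, hz₁]
    have hzz : (z : R) * ((z⁻¹ : Rˣ) : R) = 1 := z.mul_inv
    linear_combination (pR ^ (N + N' + 1) * jMap A B Ah Kh c) * hzz
  have hb0 : b ≠ 0 := by
    rintro rfl
    rw [map_zero] at hbz
    exact not_isUnit_zero (M₀ := R) (hbz ▸
      ((hpR.pow N).mul z.isUnit).mul (w₀.isUnit.map (jMap A B Ah Kh)))
  obtain ⟨e, v, hev⟩ := exists_factorization β hβ b hb0
  obtain ⟨f, v', hfv⟩ := exists_factorization β hβ (algebraMap A B π)
    (fun h => hπ.ne_zero ((map_eq_zero_iff _ (FaithfulSMul.algebraMap_injective A B)).1 h))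
  refine ⟨fun m => (e m : ℤ) - N * f m,
    Units.map ((Algebra.TensorProduct.includeLeftRingHom : B →+* B ⊗[A] Ah) : B →* B ⊗[A] Ah) (v * (v' ^ N)⁻¹) * w₀⁻¹, ?_⟩
  have hmap : ∀ x : Bˣ, Units.map (jMap A B Ah Kh : B ⊗[A] Ah →* B ⊗[A] Kh)
      (Units.map ((Algebra.TensorProduct.includeLeftRingHom : B →+* B ⊗[A] Ah) : B →* B ⊗[A] Ah) x) =
      Units.map (ι : B →* R) x := fun x => by
    ext
    show jMap A B Ah Kh ((x : B) ⊗ₜ 1) = (x : B) ⊗ₜ 1
    rw [jMap_tmul, map_one]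
  rw [map_mul, map_inv, hmap]
  set wj := Units.map (jMap A B Ah Kh : B ⊗[A] Ah →* B ⊗[A] Kh) w₀
  set V := Units.map (ι : B →* R) v
  set V' := Units.map (ι : B →* R) v'
  set Pe := unitsProd ι β hu (fun m => (e m : ℤ)) with hPe
  set Pf := unitsProd ι β hu (fun m => (f m : ℤ)) with hPf
  have hsub : unitsProd ι β hu (fun m => (e m : ℤ) - N * f m) * Pf ^ N = Pe := by
    have : unitsProd ι β hu (fun m => (N : ℤ) * f m) = Pf ^ N := by
      simp only [hPf, unitsProd, ← Finset.prod_pow, mul_comm (N : ℤ), zpow_mul, zpow_natCast]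
    rw [← this, hPe, ← unitsProd_add]
    congr 1
    funext m
    simp
  have h1 : z * (V' * Pf) ^ N * wj = V * Pe := by
    refine Units.ext ?_
    simp only [Units.val_mul, Units.val_pow_eq_pow_val]
    rw [hPe, hPf, unitsProd_natCast, unitsProd_natCast]
    simp only [V, V', wj, Units.coe_map, MonoidHom.coe_coe]
    rw [← map_mul, ← map_mul, ← hfv, ← hev, hbz, mul_comm (z : R)]
    rfl
  rw [map_mul, map_inv, map_pow]
  have hcalc : z = z * (V' * Pf) ^ N * wj * ((V' * Pf) ^ N * wj)⁻¹ := by group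
  rw [hcalc, h1, ← hsub, mul_pow]
  simp [mul_comm, mul_left_comm, mul_assoc]
  rfl

end Groth.Misc15.TorusDvr
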