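import Groth.Agent.Misc15.TorusDvr.Complete
import Groth.Agent.Misc15.TorusDvr.Cover

/-!
Points of an isotrivial torus over a completed discrete valuation ring.
-/

set_option autoImplicit false
set_option linter.style.haveILetI false

universe u

open CategoryTheory MonoidalCategory CartesianMonoidalCategory MonObj AlgebraicGeometry TensorProduct
open scoped Pointwise nonZeroDivisors

noncomputable section

namespace Groth.Misc15.TorusDvr

variable {A : Type u} [CommRing A] [IsDomain A] [IsDiscreteValuationRing A]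

attribute [local instance] maxAction

variable (v : IsDedekindDomain.HeightOneSpectrum A)

local notation "𝕂" => FractionRing A
local notation "𝕂h" => IsDedekindDomain.HeightOneSpectrum.adicCompletion (FractionRing A) v
local notation "𝕆h" => IsDedekindDomain.HeightOneSpectrum.adicCompletionIntegers (FractionRing A) v

theorem asIdeal_eq : v.asIdeal = IsLocalRing.maximalIdeal A :=
  IsLocalRing.eq_maximalIdeal (v.isPrime.isMaximal v.ne_bot)

theorem valued_algebraMap (a : A) :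
    Valued.v (algebraMap A 𝕂h a) = v.valuation 𝕂 (algebraMap A 𝕂 a) := by
  rw [IsScalarTower.algebraMap_apply A 𝕂 𝕂h a,
    IsDedekindDomain.HeightOneSpectrum.algebraMap_adicCompletion]
  exact IsDedekindDomain.HeightOneSpectrum.valuedAdicCompletion_eq_valuation' v _

theorem valued_lt_one {π : A} (hπ : Irreducible π) : Valued.v (algebraMap A 𝕂h π) < 1 := by
  rw [valued_algebraMap, IsDedekindDomain.HeightOneSpectrum.valuation_lt_one_iff_mem, asIdeal_eq]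
  exact hπ.not_isUnit

theorem not_isUnit_int {π : A} (hπ : Irreducible π) : ¬ IsUnit (algebraMap A 𝕆h π) := by
  rw [IsDedekindDomain.HeightOneSpectrum.adicCompletionIntegers.isUnit_iff_valued_eq_one]
  exact (valued_lt_one v hπ).ne

theorem faithfullyFlat_int : Module.FaithfullyFlat A 𝕆h := by
  obtain ⟨π, hπ⟩ := IsDiscreteValuationRing.exists_irreducible A
  haveI : Module.Flat A 𝕆h := inferInstance
  haveI : IsLocalHom (algebraMap A 𝕆h) := ⟨fun a ha => by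
    by_contra h
    obtain ⟨c, rfl⟩ := Ideal.mem_span_singleton'.1 (hπ.maximalIdeal_eq ▸ (show a ∈ IsLocalRing.maximalIdeal A from h))
    rw [map_mul] at ha
    exact not_isUnit_int v hπ (isUnit_of_mul_isUnit_right ha)⟩
  exact Module.FaithfullyFlat.of_flat_of_isLocalHom

theorem hloc_int {π : A} (hπ : Irreducible π) (k : 𝕂h) :
    ∃ (N : ℕ) (a : 𝕆h), algebraMap 𝕆h 𝕂h a = algebraMap A 𝕂h π ^ N * k := by
  obtain ⟨b, hb, hbk⟩ :=
    IsDedekindDomain.HeightOneSpectrum.adicCompletion.mul_nonZeroDivisor_mem_adicCompletionIntegers v k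
  obtain ⟨N, w, hw⟩ := IsDiscreteValuationRing.eq_unit_mul_pow_irreducible (nonZeroDivisors.ne_zero hb) hπ
  refine ⟨N, algebraMap A 𝕆h (↑w⁻¹ : A) * ⟨_, hbk⟩, ?_⟩
  rw [map_mul, ← IsScalarTower.algebraMap_apply]
  show algebraMap A 𝕂h (↑w⁻¹ : A) * (k * algebraMap A 𝕂h b) = _
  rw [hw, map_mul, map_pow]
  have : algebraMap A 𝕂h (↑w⁻¹ : A) * algebraMap A 𝕂h (w : A) = 1 := by
    rw [← map_mul, Units.inv_mul, map_one]
  linear_combination (k * algebraMap A 𝕂h π ^ N) * this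

theorem approx_int {π : A} (hπ : Irreducible π) (a : 𝕆h) (N : ℕ) :
    ∃ (α : A) (c : 𝕆h), a - algebraMap A 𝕆h α = algebraMap A 𝕆h π ^ N * c := by
  have hπ0 : algebraMap A 𝕂h π ≠ 0 :=
    (map_ne_zero_iff _ (by
      rw [IsScalarTower.algebraMap_eq A 𝕂 𝕂h]
      exact (algebraMap 𝕂 𝕂h).injective.comp (IsFractionRing.injective A 𝕂))).2 hπ.ne_zero
  set p := Valued.v (algebraMap A 𝕂h π ^ N) with hp
  have hp0 : p ≠ 0 := by rw [hp]; simp [hπ0]
  have hp1 : p ≤ 1 := by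
    rw [hp, map_pow]; exact pow_le_one₀ zero_le (valued_lt_one v hπ).le
  have hopen : IsOpen {y : 𝕂h | (y - (a : 𝕂h)) / algebraMap A 𝕂h π ^ N ∈ 𝕆h} := by
    exact (Valued.isOpen_valuationSubring 𝕂h).preimage
      (f := fun y : 𝕂h => (y - (a : 𝕂h)) / algebraMap A 𝕂h π ^ N)
      ((continuous_id.sub continuous_const).div_const _)
  obtain ⟨k, hk'⟩ := (IsDedekindDomain.HeightOneSpectrum.denseRange_algebraMap 𝕂 v).exists_mem_open hopen
    ⟨(a : 𝕂h), by show ((a : 𝕂h) - a) / _ ∈ 𝕆h; rw [sub_self, zero_div]; exact zero_mem _⟩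
  have hk : Valued.v (algebraMap 𝕂 𝕂h k - (a : 𝕂h)) ≤ p := by
    have h1 : Valued.v ((algebraMap 𝕂 𝕂h k - (a : 𝕂h)) / algebraMap A 𝕂h π ^ N) ≤ 1 := hk'
    rwa [map_div₀, ← hp, div_le_one₀ (zero_lt_iff.2 hp0)] at h1
  have hk1 : v.valuation 𝕂 k ≤ 1 := by
    rw [← IsDedekindDomain.HeightOneSpectrum.valuedAdicCompletion_eq_valuation' v k]
    have he : (algebraMap 𝕂 𝕂h k) = (algebraMap 𝕂 𝕂h k - (a : 𝕂h)) + a := by abel
    show Valued.v (algebraMap 𝕂 𝕂h k) ≤ 1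
    rw [he]
    exact (Valued.v.map_add _ _).trans (max_le (le_trans hk hp1) a.2)
  obtain ⟨α, hα⟩ : ∃ α : A, algebraMap A 𝕂 α = k := by
    rcases ValuationRing.isInteger_or_isInteger A k with h | ⟨β, hβ⟩
    · exact h
    by_cases hk0 : k = 0
    · exact ⟨0, by rw [hk0, map_zero]⟩
    have hunit : IsUnit β := by
      by_contra h
      have hlt : v.valuation 𝕂 (algebraMap A 𝕂 β) < 1 := by
        rw [IsDedekindDomain.HeightOneSpectrum.valuation_lt_one_iff_mem, asIdeal_eq]; exact h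
      rw [hβ, map_inv₀, inv_lt_one₀ (zero_lt_iff.2 ((map_ne_zero _).2 hk0))] at hlt
      exact absurd hk1 (not_le.2 hlt)
    obtain ⟨w, rfl⟩ := hunit
    refine ⟨((w⁻¹ : Aˣ) : A), ?_⟩
    rw [map_units_inv, hβ, inv_inv]
  have hd : Valued.v (((a : 𝕂h) - algebraMap A 𝕂h α) / algebraMap A 𝕂h π ^ N) ≤ 1 := by
    rw [map_div₀, div_le_one₀ (zero_lt_iff.2 hp0), IsScalarTower.algebraMap_apply A 𝕂 𝕂h α, hα,
      Valued.v.map_sub_swap]
    exact hk
  refine ⟨α, ⟨_, hd⟩, ?_⟩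
  apply Subtype.ext
  show (a : 𝕂h) - algebraMap A 𝕂h α = algebraMap A 𝕂h π ^ N * (_ / _)
  rw [mul_div_cancel₀ _ (pow_ne_zero _ hπ0)]

theorem isIntegral_int (k : 𝕂h) (hk : IsIntegral 𝕆h k) : ∃ a, algebraMap 𝕆h 𝕂h a = k :=
  IsIntegrallyClosed.isIntegral_iff.1 hk

variable {T : Over (Spec (CommRingCat.of A))} [GrpObj T]

/-- The action on the unramified algebra. -/
abbrev splitAction (D : Split A T) : MulSemiringAction (D.E ≃ₐ[𝕂] D.E) D.B where
  smul g b := ⟨g b.1, D.stable g b.1 b.2⟩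
  one_smul _ := Subtype.ext rfl
  mul_smul _ _ _ := Subtype.ext rfl
  smul_zero g := Subtype.ext (map_zero g)
  smul_add g _ _ := Subtype.ext (map_add g _ _)
  smul_one g := Subtype.ext (map_one g)
  smul_mul g _ _ := Subtype.ext (map_mul g _ _)

set_option maxHeartbeats 6400000 in
theorem point_eq_mul [IsAffine T.left] (D : Split A T) (x : sp (algebraMap A 𝕂h) ⟶ T) :
    ∃ (a : sp (algebraMap A 𝕆h) ⟶ T) (b : sp (algebraMap A 𝕂) ⟶ T),
      x = (spMap (algebraMap 𝕆h 𝕂h) (algebraMap A 𝕆h) (algebraMap A 𝕂h)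
            (IsScalarTower.algebraMap_eq A 𝕆h 𝕂h).symm ≫ a) *
        (spMap (algebraMap 𝕂 𝕂h) (algebraMap A 𝕂) (algebraMap A 𝕂h)
            (IsScalarTower.algebraMap_eq A 𝕂 𝕂h).symm ≫ b) := by
  classical
  letI := splitAction D
  let G := D.E ≃ₐ[𝕂] D.E
  haveI : SMulCommClass G A D.B := ⟨fun g a b => Subtype.ext (by
    show g (a • (b : D.E)) = a • g (b : D.E)
    rw [← algebraMap_smul 𝕂 a, map_smul, algebraMap_smul])⟩
  obtain ⟨π, hπ⟩ := IsDiscreteValuationRing.exists_irreducible A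
  have hAE : Function.Injective (algebraMap A D.E) := by
    rw [IsScalarTower.algebraMap_eq A 𝕂 D.E]
    exact (algebraMap 𝕂 D.E).injective.comp (IsFractionRing.injective A 𝕂)
  haveI : FaithfulSMul A D.B := (faithfulSMul_iff_algebraMap_injective A D.B).2 fun _ _ h =>
    hAE (congrArg Subtype.val h)
  haveI := finite_maximalSpectrum (B := D.B) hπ
  haveI := Fintype.ofFinite (MaximalSpectrum D.B)
  obtain ⟨β, hβ, hβg⟩ := exists_equivariant_generators (G := G) (B := D.B) hπ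
  haveI := faithfullyFlat_int v
  set τ := D.triv
  let iR : 𝕂h →ₐ[A] D.B ⊗[A] 𝕂h := Algebra.TensorProduct.includeRight
  let iF : 𝕂 →ₐ[A] D.B ⊗[A] 𝕂 := Algebra.TensorProduct.includeRight
  let jL : D.B →+* D.B ⊗[A] 𝕂h := Algebra.TensorProduct.includeLeftRingHom
  let jF : D.B →+* D.B ⊗[A] 𝕂 := Algebra.TensorProduct.includeLeftRingHom
  have hjL : jL.comp (algebraMap A D.B) = algebraMap A (D.B ⊗[A] 𝕂h) := rfl
  have hjF : jF.comp (algebraMap A D.B) = algebraMap A (D.B ⊗[A] 𝕂) := rfl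
  have hπK : algebraMap A 𝕂h π ≠ 0 := (map_ne_zero_iff _ (by
    rw [IsScalarTower.algebraMap_eq A 𝕂 𝕂h]
    exact (algebraMap 𝕂 𝕂h).injective.comp (IsFractionRing.injective A 𝕂))).2 hπ.ne_zero
  have hπF : algebraMap A 𝕂 π ≠ 0 := (map_ne_zero_iff _ (IsFractionRing.injective A 𝕂)).2 hπ.ne_zero
  have hu : ∀ m, IsUnit (jL (β m)) := isUnit_image hπ hβ jL (by
    rw [← RingHom.comp_apply, hjL, ← iR.commutes π]
    exact (Ne.isUnit hπK).map _)
  have huF : ∀ m, IsUnit (jF (β m)) := isUnit_image hπ hβ jF (by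
    rw [← RingHom.comp_apply, hjF, ← iF.commutes π]
    exact (Ne.isUnit hπF).map _)
  let f0 : D.B ⊗[A] 𝕂 →ₐ[A] D.B ⊗[A] 𝕂h :=
    Algebra.TensorProduct.map (AlgHom.id A D.B) (IsScalarTower.toAlgHom A 𝕂 𝕂h)
  let toE : D.B ⊗[A] 𝕂 →ₐ[A] D.E :=
    Algebra.TensorProduct.lift D.B.val (IsScalarTower.toAlgHom A 𝕂 D.E) fun _ _ => Commute.all _ _
  have hf0 : (f0 : D.B ⊗[A] 𝕂 →+* D.B ⊗[A] 𝕂h).comp jF = jL := RingHom.ext fun b => by
    show f0 (b ⊗ₜ 1) = b ⊗ₜ 1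
    simp [f0]
  have htoE : Function.Injective toE := by
    refine (injective_iff_map_eq_zero toE).2 fun r hr => ?_
    obtain ⟨N, w, hw⟩ := exists_pow_mul_mem (Ah := A) (Kh := 𝕂) (π := π) (fun k => by
      obtain ⟨p, q, hq, rfl⟩ := IsFractionRing.div_surjective A k
      obtain ⟨N, e, he⟩ := IsDiscreteValuationRing.eq_unit_mul_pow_irreducible (nonZeroDivisors.ne_zero hq) hπ
      refine ⟨N, p * ↑e⁻¹, ?_⟩
      have h1 : algebraMap A 𝕂 q ≠ 0 :=
        (map_ne_zero_iff _ (IsFractionRing.injective A 𝕂)).2 (nonZeroDivisors.ne_zero hq)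
      field_simp
      rw [← map_pow, ← map_mul, ← map_mul]
      congr 1
      rw [he]
      linear_combination (p * π ^ N) * e.inv_mul) r
    obtain ⟨b, rfl⟩ : ∃ b : D.B, b ⊗ₜ[A] (1 : A) = w :=
      ⟨Algebra.TensorProduct.rid A A D.B w, by
        apply (Algebra.TensorProduct.rid A A D.B).injective
        simp⟩
    have h0 : (b : D.E) = 0 := by
      have := congrArg toE hw
      rw [map_mul, hr, mul_zero, jMap_tmul] at this
      simpa [toE] using this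
    rw [show b = 0 from Subtype.ext h0, TensorProduct.zero_tmul, map_zero] at hw
    exact ((((Ne.isUnit hπF).map iF).pow N).mul_right_eq_zero).1 (by rw [iF.commutes]; exact hw.symm)
  -- twisting
  let gB : G → (D.B →ₐ[A] D.B) := fun g => MulSemiringAction.toAlgHom A D.B g
  choose σ hσ using fun g => exists_sigma τ (gB g)
  let gR : G → (D.B ⊗[A] 𝕂h →ₐ[A] D.B ⊗[A] 𝕂h) := fun g =>
    Algebra.TensorProduct.map (gB g) (AlgHom.id A 𝕂h)
  let gA : G → (D.B ⊗[A] 𝕆h →ₐ[A] D.B ⊗[A] 𝕆h) := fun g =>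
    Algebra.TensorProduct.map (gB g) (AlgHom.id A 𝕆h)
  let gF : G → (D.B ⊗[A] 𝕂 →ₐ[A] D.B ⊗[A] 𝕂) := fun g =>
    Algebra.TensorProduct.map (gB g) (AlgHom.id A 𝕂)
  have hgjL : ∀ g, (gR g : D.B ⊗[A] 𝕂h →+* D.B ⊗[A] 𝕂h).comp jL = jL.comp (gB g : D.B →+* D.B) :=
    fun g => RingHom.ext fun b => rfl
  have hgjF : ∀ g, (gF g : D.B ⊗[A] 𝕂 →+* D.B ⊗[A] 𝕂).comp jF = jF.comp (gB g : D.B →+* D.B) :=
    fun g => RingHom.ext fun b => rfl
  have hgj : ∀ g z, gR g (jMap A D.B 𝕆h 𝕂h z) = jMap A D.B 𝕆h 𝕂h (gA g z) := fun g z => by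
    induction z using TensorProduct.induction_on with
    | zero => simp
    | tmul b a => rfl
    | add p q hp hq => simp only [map_add, hp, hq]
  -- the point over `B ⊗ 𝕂h`
  let xR := spMap (iR : 𝕂h →+* D.B ⊗[A] 𝕂h) (algebraMap A 𝕂h) (algebraMap A (D.B ⊗[A] 𝕂h))
    iR.comp_algebraMap ≫ x
  set y := Φ τ jL _ hjL xR with hy
  have hyg : ∀ g m, gR g (y (Multiplicative.ofAdd m)) = y (Multiplicative.ofAdd (σ g m)) := by
    intro g m
    have hfix : spMap (gR g : D.B ⊗[A] 𝕂h →+* D.B ⊗[A] 𝕂h) _ _ (gR g).comp_algebraMap ≫ xR = xR := by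
      simp only [xR]
      rw [← Category.assoc, spMap_comp]
      congr 2
      exact RingHom.ext fun k => by simp [gR, iR]
    have h1 := Φ_map τ (gR g : D.B ⊗[A] 𝕂h →+* D.B ⊗[A] 𝕂h) jL _ _ hjL (gR g).comp_algebraMap xR
    simp only [hgjL, hfix] at h1
    rw [← hσ g _ jL _ hjL (by rw [RingHom.comp_assoc, AlgHom.comp_algebraMap, hjL]) xR m, h1]
    rfl
  haveI : Nontrivial (D.B ⊗[A] 𝕂h) := by
    haveI : Module.IsTorsionFree A D.B := Module.isTorsionFree_iff_faithfulSMul.2 inferInstance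
    infer_instance
  have hdec : ∀ m : τ.M, ∃ (n : MaximalSpectrum D.B → ℤ) (w : (D.B ⊗[A] 𝕆h)ˣ),
      y (Multiplicative.ofAdd m) = (unitsProd jL β hu n : D.B ⊗[A] 𝕂h) * jMap A D.B 𝕆h 𝕂h w := fun m => by
    obtain ⟨z, hz⟩ := (Group.isUnit (Multiplicative.ofAdd m)).map y
    obtain ⟨n, w, h⟩ := exists_decomp hπ (not_isUnit_int v hπ) hπK (hloc_int v hπ) (approx_int v hπ) hβ hu z
    exact ⟨n, w, by rw [← hz, h]; rfl⟩
  choose n w hw using hdec
  have huniq : ∀ (m : τ.M) (n' : MaximalSpectrum D.B → ℤ) (w' : (D.B ⊗[A] 𝕆h)ˣ),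
      y (Multiplicative.ofAdd m) = (unitsProd jL β hu n' : D.B ⊗[A] 𝕂h) * jMap A D.B 𝕆h 𝕂h w' →
        n m = n' ∧ w m = w' := by
    intro m n' w' h
    have h2 : (unitsProd jL β hu (n m - n') : D.B ⊗[A] 𝕂h) = jMap A D.B 𝕆h 𝕂h ↑(w' * (w m)⁻¹) := by
      have e1 : unitsProd jL β hu (n m - n') * unitsProd jL β hu n' = unitsProd jL β hu (n m) := by
        rw [← unitsProd_add, sub_add_cancel]
      rw [hw m, ← e1, Units.val_mul] at h
      have e2 : jMap A D.B 𝕆h 𝕂h ↑(w' * (w m)⁻¹) * jMap A D.B 𝕆h 𝕂h (w m : D.B ⊗[A] 𝕆h) =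
          jMap A D.B 𝕆h 𝕂h (w' : D.B ⊗[A] 𝕆h) := by
        rw [← map_mul, ← Units.val_mul, inv_mul_cancel_right]
      rw [← e2] at h
      refine ((w m).isUnit.map (jMap A D.B 𝕆h 𝕂h)).mul_right_cancel ?_
      refine (unitsProd jL β hu n').isUnit.mul_left_cancel ?_
      rw [← _root_.mul_assoc, ← _root_.mul_assoc, mul_comm _ (unitsProd jL β hu (n m - n') : D.B ⊗[A] 𝕂h), h,
        _root_.mul_assoc]
    have h3 := eq_zero_of_unitsProd_eq hβ hu _ _ h2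
    rw [h3, unitsProd_zero, Units.val_one, ← map_one (jMap A D.B 𝕆h 𝕂h)] at h2
    exact ⟨sub_eq_zero.1 h3, (mul_inv_eq_one.1 (Units.ext (jMap_injective h2).symm)).symm⟩
  have hnadd : ∀ m m', n (m + m') = n m + n m' ∧ w (m + m') = w m * w m' := fun m m' =>
    huniq _ _ _ (by
      rw [ofAdd_add, map_mul, hw, hw, unitsProd_add, Units.val_mul, Units.val_mul, map_mul]
      ring)
  have hn0 : n 0 = 0 ∧ w 0 = 1 := huniq _ _ _ (by
    rw [ofAdd_zero, map_one, unitsProd_zero, Units.val_one, Units.val_one, map_one, _root_.mul_one])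
  have hng : ∀ g m, n (σ g m) = n m ∘ (MulAction.toPerm g : Equiv.Perm (MaximalSpectrum D.B)).symm :=
    fun g m => (huniq _ _ (Units.map (gA g : D.B ⊗[A] 𝕆h →* D.B ⊗[A] 𝕆h) (w m)) (by
      rw [← hyg, hw, map_mul, hgj, ← unitsProd_equiv jL β hu (MulAction.toPerm g) (gB g : D.B →+* D.B)
        (gR g : D.B ⊗[A] 𝕂h →+* D.B ⊗[A] 𝕂h) (hgjL g) (fun m => hβg g m) (n m)]
      rfl)).1
  -- the rational point
  let s : Multiplicative τ.M →* D.B ⊗[A] 𝕂 :=
    { toFun := fun m => (unitsProd jF β huF (n m.toAdd) : D.B ⊗[A] 𝕂)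
      map_one' := by rw [toAdd_one, hn0.1, unitsProd_zero, Units.val_one]
      map_mul' := fun m m' => by rw [toAdd_mul, (hnadd _ _).1, unitsProd_add, Units.val_mul] }
  let xF := (Φ τ jF _ hjF).symm s
  have hfixF : ∀ g, spMap (gF g : D.B ⊗[A] 𝕂 →+* D.B ⊗[A] 𝕂) _ _ (gF g).comp_algebraMap ≫ xF = xF := by
    intro g
    have hc' : (jF.comp (gB g : D.B →+* D.B)).comp (algebraMap A D.B) = algebraMap A (D.B ⊗[A] 𝕂) := by
      rw [RingHom.comp_assoc, AlgHom.comp_algebraMap, hjF]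
    refine (Φ τ (jF.comp (gB g : D.B →+* D.B)) _ hc').injective (MonoidHom.ext fun m => ?_)
    have h1 := Φ_map τ (gF g : D.B ⊗[A] 𝕂 →+* D.B ⊗[A] 𝕂) jF _ _ hjF (gF g).comp_algebraMap xF
    simp only [hgjF] at h1
    rw [h1, ← ofAdd_toAdd m, hσ g _ jF _ hjF hc' xF]
    show gF g (Φ τ jF _ hjF xF (Multiplicative.ofAdd m.toAdd)) = _
    simp only [xF, MulEquiv.apply_symm_apply]
    show gF g (unitsProd jF β huF (n m.toAdd) : D.B ⊗[A] 𝕂) = unitsProd jF β huF (n (σ g m.toAdd))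
    rw [hng, ← unitsProd_equiv jF β huF (MulAction.toPerm g) (gB g : D.B →+* D.B)
      (gF g : D.B ⊗[A] 𝕂 →+* D.B ⊗[A] 𝕂) (hgjF g) (fun m => hβg g m) (n m.toAdd)]
    rfl
  have hgE : ∀ (g : G) r, toE (gF g r) = g (toE r) := fun g r => by
    induction r using TensorProduct.induction_on with
    | zero => simp
    | tmul b k =>
      show ((g • b : D.B) : D.E) * algebraMap 𝕂 D.E k = g ((b : D.E) * algebraMap 𝕂 D.E k)
      rw [map_mul, g.commutes]
      rfl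
    | add p q hp hq => simp only [map_add, hp, hq]
  obtain ⟨b, hb⟩ := exists_pt_of_range (iF : 𝕂 →+* D.B ⊗[A] 𝕂)
    (by
      intro p q hpq
      apply (algebraMap 𝕂 D.E).injective
      have := congrArg toE hpq
      simpa [toE, iF] using this)
    (algebraMap A 𝕂) _ iF.comp_algebraMap xF (fun o => by
      obtain ⟨k, hk⟩ := IntermediateField.mem_bot.1
        ((IsGalois.mem_bot_iff_fixed (F := 𝕂) (toE (ptHom xF o))).2 fun g => by
          rw [← hgE]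
          congr 1
          have h2 := RingHom.congr_fun (ptHom_spMap (gF g : D.B ⊗[A] 𝕂 →+* D.B ⊗[A] 𝕂)
            (gF g).comp_algebraMap xF) o
          rw [hfixF] at h2
          exact h2.symm)
      exact ⟨k, htoE (by rw [← hk]; simp [toE, iF])⟩)
  -- the integral point
  set bx := spMap (algebraMap 𝕂 𝕂h) (algebraMap A 𝕂) (algebraMap A 𝕂h)
    (IsScalarTower.algebraMap_eq A 𝕂 𝕂h).symm ≫ b
  set az := x / bx with haz
  let azR := spMap (iR : 𝕂h →+* D.B ⊗[A] 𝕂h) (algebraMap A 𝕂h) _ iR.comp_algebraMap ≫ az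
  let bR := spMap (iR : 𝕂h →+* D.B ⊗[A] 𝕂h) (algebraMap A 𝕂h) _ iR.comp_algebraMap ≫ bx
  have hbR : ∀ m : τ.M, Φ τ jL _ hjL bR (Multiplicative.ofAdd m) = (unitsProd jL β hu (n m) : D.B ⊗[A] 𝕂h) := by
    intro m
    have h1 := Φ_map τ (f0 : D.B ⊗[A] 𝕂 →+* D.B ⊗[A] 𝕂h) jF _ _ hjF f0.comp_algebraMap xF
    simp only [hf0] at h1
    have hbR' : bR = spMap (f0 : D.B ⊗[A] 𝕂 →+* D.B ⊗[A] 𝕂h) _ _ f0.comp_algebraMap ≫ xF := by
      rw [← hb]
      simp only [bR, bx]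
      rw [← Category.assoc, ← Category.assoc, spMap_comp, spMap_comp]
      congr 2
    rw [hbR', h1]
    show f0 (Φ τ jF _ hjF xF (Multiplicative.ofAdd m)) = _
    simp only [xF, MulEquiv.apply_symm_apply]
    rw [← map_unitsProd jF (f0 : D.B ⊗[A] 𝕂 →+* D.B ⊗[A] 𝕂h) jL hf0 β huF hu]
    rfl
  let wH : Multiplicative τ.M →* D.B ⊗[A] 𝕆h :=
    { toFun := fun m => (w m.toAdd : D.B ⊗[A] 𝕆h)
      map_one' := by rw [toAdd_one, hn0.2, Units.val_one]
      map_mul' := fun m m' => by rw [toAdd_mul, (hnadd _ _).2, Units.val_mul] }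
  let jA : D.B →+* D.B ⊗[A] 𝕆h := Algebra.TensorProduct.includeLeftRingHom
  have hjA : jA.comp (algebraMap A D.B) = algebraMap A (D.B ⊗[A] 𝕆h) := rfl
  let aB := (Φ τ jA _ hjA).symm wH
  have haR : spMap (jMap A D.B 𝕆h 𝕂h : D.B ⊗[A] 𝕆h →+* D.B ⊗[A] 𝕂h) _ _
      (jMap A D.B 𝕆h 𝕂h).comp_algebraMap ≫ aB = azR := by
    apply (Φ τ jL _ hjL).injective
    refine MonoidHom.ext fun m => ?_
    obtain ⟨m, rfl⟩ : ∃ k, Multiplicative.ofAdd k = m := ⟨m.toAdd, rfl⟩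
    have hjjL : (jMap A D.B 𝕆h 𝕂h : D.B ⊗[A] 𝕆h →+* D.B ⊗[A] 𝕂h).comp jA = jL := RingHom.ext fun b => by
      show jMap A D.B 𝕆h 𝕂h (b ⊗ₜ 1) = b ⊗ₜ 1
      rw [jMap_tmul, map_one]
    have h1 := Φ_map τ (jMap A D.B 𝕆h 𝕂h : D.B ⊗[A] 𝕆h →+* D.B ⊗[A] 𝕂h) jA _ _ hjA
      (jMap A D.B 𝕆h 𝕂h).comp_algebraMap aB
    simp only [hjjL] at h1
    rw [h1]
    show jMap A D.B 𝕆h 𝕂h (Φ τ jA _ hjA aB (Multiplicative.ofAdd m)) = _
    simp only [aB, MulEquiv.apply_symm_apply]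
    show jMap A D.B 𝕆h 𝕂h (w m : D.B ⊗[A] 𝕆h) = _
    refine (unitsProd jL β hu (n m)).isUnit.mul_left_cancel ?_
    rw [← hw, ← hbR, ← MonoidHom.mul_apply, mul_comm, ← map_mul]
    congr 2
    simp only [xR, bR, azR]
    rw [← MonObj.comp_mul, haz, div_mul_cancel]
  obtain ⟨a, ha⟩ := exists_pt_of_range (algebraMap 𝕆h 𝕂h) (FaithfulSMul.algebraMap_injective 𝕆h 𝕂h)
    (algebraMap A 𝕆h) (algebraMap A 𝕂h) (IsScalarTower.algebraMap_eq A 𝕆h 𝕂h).symm az (fun o => by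
      have h1 := RingHom.congr_fun (ptHom_spMap (iR : 𝕂h →+* D.B ⊗[A] 𝕂h) iR.comp_algebraMap az) o
      have h2 := RingHom.congr_fun (ptHom_spMap (jMap A D.B 𝕆h 𝕂h : D.B ⊗[A] 𝕆h →+* D.B ⊗[A] 𝕂h)
        (jMap A D.B 𝕆h 𝕂h).comp_algebraMap aB) o
      rw [haR] at h2
      exact mem_range_of_one_tmul (isIntegral_int v) _ _ (h2.symm.trans h1))
  exact ⟨a, b, by rw [ha, haz, div_mul_cancel]⟩

end Groth.Misc15.TorusDvr
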