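import Mathlib

/-!
A finite unramified domain over a discrete valuation ring: prime elements at the maximal ideals which
are equivariant for a finite group of automorphisms.
-/

set_option autoImplicit false
set_option linter.style.haveILetI false

universe u

open scoped Pointwise

namespace Groth.Misc15.TorusDvr

variable {A B : Type u} [CommRing A] [IsDomain A] [IsDiscreteValuationRing A]
  [CommRing B] [IsDomain B] [Algebra A B] [Module.Finite A B] [FaithfulSMul A B]

omit [IsDiscreteValuationRing A] in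
theorem isMaximal_of_ne_bot [Ring.DimensionLEOne A] (p : Ideal B) [p.IsPrime] (hp : p ≠ ⊥) :
    p.IsMaximal := by
  haveI : Algebra.IsIntegral A B := Algebra.IsIntegral.of_finite A B
  exact Ideal.isMaximal_of_isIntegral_of_isMaximal_comap (R := A) p
    ((Ideal.IsPrime.comap (algebraMap A B)).isMaximal (mt Ideal.eq_bot_of_comap_eq_bot hp))

theorem mem_of_isMaximal {π : A} (hπ : Irreducible π) (m : Ideal B) [m.IsMaximal] :
    algebraMap A B π ∈ m := by
  haveI : Algebra.IsIntegral A B := Algebra.IsIntegral.of_finite A B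
  have h := IsLocalRing.eq_maximalIdeal (Ideal.isMaximal_comap_of_isIntegral_of_isMaximal (R := A) m)
  rw [← Ideal.mem_comap, h]
  exact hπ.not_isUnit

theorem finite_maximalSpectrum {π : A} (hπ : Irreducible π) : Finite (MaximalSpectrum B) := by
  haveI : IsNoetherianRing B := .of_finite A B
  haveI : Ring.DimensionLEOne A := inferInstance
  have hne : Ideal.span {algebraMap A B π} ≠ ⊥ := by
    rw [Ne, Ideal.span_singleton_eq_bot, map_eq_zero_iff _ (FaithfulSMul.algebraMap_injective A B)]
    exact hπ.ne_zero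
  haveI := (Ideal.finite_minimalPrimes_of_isNoetherianRing B (Ideal.span {algebraMap A B π})).to_subtype
  refine Finite.of_injective (β := (Ideal.span {algebraMap A B π}).minimalPrimes)
    (fun m => ⟨m.asIdeal, ⟨⟨m.isMaximal.isPrime, (Ideal.span_singleton_le_iff_mem _).2
      (haveI := m.isMaximal; mem_of_isMaximal hπ _)⟩, fun q hq hqm => ?_⟩⟩) ?_
  · haveI := hq.1
    exact ((isMaximal_of_ne_bot (A := A) q (ne_bot_of_le_ne_bot hne hq.2)).eq_of_le
      m.isMaximal.ne_top hqm).ge
  · intro m m' h
    exact MaximalSpectrum.ext (congrArg Subtype.val h)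

theorem isRadical_span [Algebra.FormallyUnramified A B] {π : A} (hπ : Irreducible π) :
    (Ideal.span {algebraMap A B π}).IsRadical := by
  set P := IsLocalRing.maximalIdeal A
  have h : P.map (algebraMap A B) = Ideal.span {algebraMap A B π} := by
    rw [show P = Ideal.span {π} from hπ.maximalIdeal_eq, Ideal.map_span, Set.image_singleton]
  rw [← h]
  letI := Ideal.Quotient.field P
  haveI : Algebra.FormallyUnramified A (B ⧸ P.map (algebraMap A B)) :=
    .of_surjective (Ideal.Quotient.mkₐ A _) (Ideal.Quotient.mkₐ_surjective A _)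
  haveI : Algebra.FormallyUnramified (A ⧸ P) (B ⧸ P.map (algebraMap A B)) :=
    .of_restrictScalars A _ _
  haveI : Module.Finite (A ⧸ P) (B ⧸ P.map (algebraMap A B)) :=
    Module.Finite.of_restrictScalars_finite A _ _
  haveI : IsReduced (B ⧸ P.map (algebraMap A B)) :=
    Algebra.FormallyUnramified.isReduced_of_field (A ⧸ P) _
  exact (Ideal.isRadical_iff_quotient_reduced _).2 inferInstance

variable {G : Type*} [Group G] [Finite G] [MulSemiringAction G B] [SMulCommClass G A B]

omit [Finite G] in
theorem isMaximal_smul (g : G) (m : Ideal B) [m.IsMaximal] : (g • m).IsMaximal := by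
  rw [Ideal.pointwise_smul_eq_comap]
  exact Ideal.comap_isMaximal_of_surjective (K := m) _
    (MulSemiringAction.toRingEquiv G B g⁻¹).surjective

/-- The action on maximal ideals. -/
abbrev maxAction : MulAction G (MaximalSpectrum B) where
  smul g m := ⟨g • m.asIdeal, haveI := m.isMaximal; isMaximal_smul g _⟩
  one_smul m := MaximalSpectrum.ext (one_smul G m.asIdeal)
  mul_smul g h m := MaximalSpectrum.ext (mul_smul g h m.asIdeal)

attribute [local instance] maxAction

omit [Finite G] in
theorem asIdeal_smul (g : G) (m : MaximalSpectrum B) : (g • m).asIdeal = g • m.asIdeal := rfl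

/-- A generator of a maximal ideal fixed by its stabiliser. -/
theorem exists_fixed_generator [Algebra.FormallyUnramified A B] {π : A} (hπ : Irreducible π)
    (m : MaximalSpectrum B) :
    ∃ b : B, Ideal.span {b} = m.asIdeal ∧ ∀ g : G, g • m = m → g • b = b := by
  classical
  haveI : IsNoetherianRing B := .of_finite A B
  haveI := finite_maximalSpectrum (B := B) hπ
  haveI := m.isMaximal
  set p := algebraMap A B π with hp
  set others : Ideal B := ⨅ n ∈ {n : MaximalSpectrum B | n ≠ m}, n.asIdeal with hothers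
  have hco : m.asIdeal ^ 2 ⊔ others = ⊤ := by
    by_contra hne
    obtain ⟨M, hM, hle⟩ := Ideal.exists_le_maximal _ hne
    have hMm : M = m.asIdeal :=
      (m.isMaximal.eq_of_le hM.ne_top ((hM.isPrime.pow_le_iff two_ne_zero).1 (le_sup_left.trans hle))).symm
    haveI := Fintype.ofFinite (MaximalSpectrum B)
    have h := le_sup_right.trans hle
    have hfin : others = (Finset.univ.filter fun n : MaximalSpectrum B => n ≠ m).inf fun n => n.asIdeal := by
      simp [hothers, Finset.inf_eq_iInf]
    rw [hfin, hM.isPrime.inf_le'] at h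
    obtain ⟨n, hn, hnM⟩ := h
    refine (Finset.mem_filter.1 hn).2 (MaximalSpectrum.ext ?_)
    rw [← hMm]
    exact n.isMaximal.eq_of_le hM.ne_top hnM
  obtain ⟨c, hc, e₀, he₀, hce⟩ := Submodule.mem_sup.1 (hco ▸ Submodule.mem_top : (1 : B) ∈ _)
  haveI := Fintype.ofFinite G
  let D := Finset.univ.filter fun g : G => g • m = m
  set e := ∏ g ∈ D, g • e₀ with he
  have hem : e - 1 ∈ m.asIdeal ^ 2 := by
    rw [← Ideal.Quotient.eq, he, map_prod, map_one]
    refine Finset.prod_eq_one fun g hg => ?_
    rw [← map_one (Ideal.Quotient.mk (m.asIdeal ^ 2)), Ideal.Quotient.eq]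
    have h0 : e₀ - 1 ∈ m.asIdeal ^ 2 := by
      rw [← hce, show e₀ - (c + e₀) = -c by ring]
      exact (m.asIdeal ^ 2).neg_mem hc
    have hgm : g • m.asIdeal = m.asIdeal := congrArg MaximalSpectrum.asIdeal (Finset.mem_filter.1 hg).2
    have := Ideal.smul_mem_pointwise_smul g _ _ h0
    rwa [smul_sub, smul_one, smul_pow', hgm] at this
  have heo : e ∈ others := by
    rw [he, ← Finset.mul_prod_erase D _ (show (1 : G) ∈ D by simp [D]), one_smul]
    exact others.mul_mem_right _ he₀
  have heno : ∀ n : MaximalSpectrum B, n ≠ m → e ∈ n.asIdeal := fun n hn =>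
    (iInf₂_le (f := fun (n : MaximalSpectrum B) (_ : n ∈ {n : MaximalSpectrum B | n ≠ m}) => n.asIdeal) n hn) heo
  have hefix : ∀ g : G, g • m = m → g • e = e := fun g hg => by
    rw [he, Finset.smul_prod']
    refine Finset.prod_nbij' (g * ·) (g⁻¹ * ·) (fun a ha => ?_) (fun a ha => ?_)
      (fun a _ => by simp) (fun a _ => by simp) (fun a _ => (mul_smul g a e₀).symm)
    · simp only [D, Finset.mem_filter, Finset.mem_univ, true_and] at ha ⊢
      rw [mul_smul, ha, hg]
    · simp only [D, Finset.mem_filter, Finset.mem_univ, true_and] at ha ⊢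
      rw [mul_smul, ha, inv_smul_eq_iff, hg]
  have hpm : p ∈ m.asIdeal := mem_of_isMaximal hπ _
  have hsq : m.asIdeal ≤ Ideal.span {p} ⊔ m.asIdeal ^ 2 := fun x hx => by
    have hxe : x * e ∈ Ideal.span {p} := by
      refine isRadical_span hπ ?_
      rw [Ideal.radical_eq_sInf, Ideal.mem_sInf]
      rintro q ⟨hq, hqprime⟩
      haveI := hqprime
      haveI : q.IsMaximal := isMaximal_of_ne_bot (A := A) q (ne_bot_of_le_ne_bot (by
        rw [Ne, Ideal.span_singleton_eq_bot,
          map_eq_zero_iff _ (FaithfulSMul.algebraMap_injective A B)]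
        exact hπ.ne_zero) hq)
      by_cases h : (⟨q, inferInstance⟩ : MaximalSpectrum B) = m
      · rw [show q = m.asIdeal from congrArg MaximalSpectrum.asIdeal h]
        exact Ideal.mul_mem_right _ _ hx
      · exact Ideal.mul_mem_left q _ (heno _ h)
    refine Submodule.mem_sup.2 ⟨x * e, hxe, -(x * (e - 1)),
      (m.asIdeal ^ 2).neg_mem (Ideal.mul_mem_left _ _ hem), by ring⟩
  set b := p * e + (1 - e) with hb
  have hbp : b - p ∈ m.asIdeal ^ 2 := by
    rw [show b - p = (p - 1) * (e - 1) by rw [hb]; ring]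
    exact Ideal.mul_mem_left _ _ hem
  have hbm : b ∈ m.asIdeal := by
    have := m.asIdeal.add_mem (Ideal.pow_le_self two_ne_zero hbp) hpm
    rwa [sub_add_cancel] at this
  have hgen : m.asIdeal ≤ Ideal.span {b} ⊔ m.asIdeal ^ 2 := hsq.trans (sup_le
    ((Ideal.span_singleton_le_iff_mem _).2 (Submodule.mem_sup.2
      ⟨b, Ideal.mem_span_singleton_self b, -(b - p), (m.asIdeal ^ 2).neg_mem hbp, by ring⟩)) le_sup_right)
  have hpow : ∀ k : ℕ, m.asIdeal ≤ Ideal.span {b} ⊔ m.asIdeal ^ (k + 1) := fun k => by
    induction k with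
    | zero => rw [zero_add, pow_one]; exact le_sup_right
    | succ k ih =>
      refine hgen.trans (sup_le le_sup_left ?_)
      rw [pow_two]
      calc m.asIdeal * m.asIdeal ≤ m.asIdeal * (Ideal.span {b} ⊔ m.asIdeal ^ (k + 1)) :=
            Ideal.mul_mono_right ih
        _ ≤ _ := by
          rw [Ideal.mul_sup]
          exact sup_le (le_sup_of_le_left Ideal.mul_le_right) (le_sup_of_le_right (by rw [← pow_succ']))
  have hb0 : b ≠ 0 := fun h0 => by
    have hle : m.asIdeal ≤ ⨅ i : ℕ, m.asIdeal ^ i := le_iInf fun i => by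
      have := hpow i
      rw [h0, Ideal.span_singleton_zero, bot_sup_eq] at this
      exact this.trans (Ideal.pow_le_pow_right (Nat.le_succ i))
    rw [Ideal.iInf_pow_eq_bot_of_isDomain _ m.isMaximal.ne_top] at hle
    have hp0 : p = 0 := hle hpm
    exact hπ.ne_zero ((map_eq_zero_iff _ (FaithfulSMul.algebraMap_injective A B)).1 hp0)
  refine ⟨b, le_antisymm ((Ideal.span_singleton_le_iff_mem _).2 hbm) ?_, fun g hg => ?_⟩
  · have hrad : m.asIdeal ≤ (Ideal.span {b}).radical := by
      rw [Ideal.radical_eq_sInf]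
      refine le_sInf fun q ⟨hq, hqprime⟩ => ?_
      haveI := hqprime
      haveI : q.IsMaximal := isMaximal_of_ne_bot (A := A) q (ne_bot_of_le_ne_bot (by
        rwa [Ne, Ideal.span_singleton_eq_bot]) hq)
      by_contra hle
      have hne : (⟨q, inferInstance⟩ : MaximalSpectrum B) ≠ m := fun h => hle (congrArg MaximalSpectrum.asIdeal h).symm.le
      have hqe : e ∈ q := heno _ hne
      refine hqprime.ne_top ((Ideal.eq_top_iff_one q).2 ?_)
      have := q.sub_mem (hq (Ideal.mem_span_singleton_self b)) (q.mul_mem_left (p - 1) hqe)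
      rwa [show b - (p - 1) * e = 1 by rw [hb]; ring] at this
    obtain ⟨k, hk⟩ := Ideal.exists_pow_le_of_le_radical_of_fg hrad (IsNoetherian.noetherian _)
    exact (hpow k).trans (sup_le le_rfl ((Ideal.pow_le_pow_right (Nat.le_succ k)).trans hk))
  · rw [hb, smul_add, smul_mul', smul_sub, smul_one, hefix g hg, hp, smul_algebraMap]

/-- Equivariant choice of generators of all maximal ideals. -/
theorem exists_equivariant_generators [Algebra.FormallyUnramified A B] {π : A} (hπ : Irreducible π) :
    ∃ β : MaximalSpectrum B → B,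
      (∀ m, Ideal.span {β m} = m.asIdeal) ∧ ∀ (g : G) m, β (g • m) = g • β m := by
  classical
  choose b hb hbfix using exists_fixed_generator (G := G) (B := B) hπ
  let r : MaximalSpectrum B → MaximalSpectrum B := fun m =>
    (Quotient.mk (MulAction.orbitRel G (MaximalSpectrum B)) m).out
  have hr : ∀ m, ∃ g : G, g • r m = m := fun m =>
    MulAction.mem_orbit_iff.1 (MulAction.mem_orbit_symm.1 (MulAction.orbitRel_apply.1 (Quotient.mk_out (s := MulAction.orbitRel G (MaximalSpectrum B)) m)))
  choose w hw using hr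
  refine ⟨fun m => w m • b (r m), fun m => ?_, fun g m => ?_⟩
  · have := congrArg MaximalSpectrum.asIdeal (hw m)
    rw [asIdeal_smul, ← hb (r m), Ideal.smul_closure, Set.smul_set_singleton] at this
    exact this
  · have hrm : r (g • m) = r m := congrArg Quotient.out
      (Quotient.sound (MulAction.mem_orbit m g) :
        Quotient.mk (MulAction.orbitRel G (MaximalSpectrum B)) (g • m) = Quotient.mk _ m)
    show w (g • m) • b (r (g • m)) = g • w m • b (r m)
    have h := hw (g • m)
    rw [hrm] at h ⊢
    have h2 : ((g * w m)⁻¹ * w (g • m)) • r m = r m := by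
      rw [mul_smul, h, inv_smul_eq_iff, mul_smul, hw m]
    have := hbfix (r m) _ h2
    rw [mul_smul, inv_smul_eq_iff, mul_smul] at this
    exact this

/-- Factorisation by generators of maximal ideals. -/
theorem exists_factorization {B : Type u} [CommRing B] [IsDomain B] [IsNoetherianRing B] [Fintype (MaximalSpectrum B)] (β : MaximalSpectrum B → B)
    (hβ : ∀ m, Ideal.span {β m} = m.asIdeal) (x : B) (hx : x ≠ 0) :
    ∃ e : MaximalSpectrum B → ℕ, ∃ u : Bˣ, x = u * ∏ m, β m ^ e m := by
  classical
  induction x using (IsWellFounded.wf (r := DvdNotUnit (α := B))).induction with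
  | _ x ih =>
  by_cases hu : IsUnit x
  · exact ⟨0, hu.unit, by simp⟩
  obtain ⟨M, hM, hxM⟩ := exists_max_ideal_of_mem_nonunits (mem_nonunits_iff.2 hu)
  obtain ⟨y, hy⟩ : ∃ y : B, y * β ⟨M, hM⟩ = x := Ideal.mem_span_singleton'.1 (by rw [hβ]; exact hxM)
  have hy0 : y ≠ 0 := fun h => hx (by rw [← hy, h, zero_mul])
  obtain ⟨e, u, he⟩ := ih y ⟨hy0, β ⟨M, hM⟩, fun h => hM.ne_top (by
    rw [← Ideal.span_singleton_eq_top.2 h]; exact (hβ ⟨M, hM⟩).symm), hy.symm⟩ hy0
  refine ⟨e + Pi.single ⟨M, hM⟩ 1, u, ?_⟩
  rw [← hy, he]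
  simp only [Pi.add_apply, pow_add, Finset.prod_mul_distrib, Pi.single_apply, pow_ite, pow_one,
    pow_zero, Finset.prod_ite_eq', Finset.mem_univ, if_true]
  ring

end Groth.Misc15.TorusDvr
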